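import Groth.Prelude.Def_CohTop
import Mathlib.Topology.Sheaves.SheafCondition.UniqueGluing
import Mathlib.Topology.Sheaves.Flasque
import Mathlib.Topology.Irreducible
import Mathlib.CategoryTheory.Sites.LocallyBijective

/-!
# Sheaves of families of germs; constant sheaves on irreducible spaces are flasque
-/

set_option autoImplicit false
universe u

open CategoryTheory Limits Opposite TopologicalSpace

noncomputable section

namespace Groth.Agent.IrrFlasque

variable {X : TopCat.{u}}

/-- `U ↦ ∏_{x ∈ U} A x`. -/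
def piPresheaf (A : X → AddCommGrpCat.{u}) : TopCat.Presheaf AddCommGrpCat.{u} X where
  obj U := AddCommGrpCat.of (∀ x : U.unop, A x.1)
  map {U V} i := AddCommGrpCat.ofHom
    { toFun := fun s x => s ⟨x.1, leOfHom i.unop x.2⟩
      map_zero' := rfl
      map_add' := fun _ _ => rfl }

theorem isSheaf_piPresheaf (A : X → AddCommGrpCat.{u}) : (piPresheaf A).IsSheaf := by
  rw [TopCat.Presheaf.isSheaf_iff_isSheafUniqueGluing]
  intro ι U sf h
  choose i hi using fun x : (iSup U : Opens X) => Opens.mem_iSup.1 x.2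
  refine ⟨fun x => sf (i x) ⟨x.1, hi x⟩, fun j => ?_, fun t ht => ?_⟩
  · funext x
    exact congrFun (h (i ⟨x.1, Opens.mem_iSup.2 ⟨j, x.2⟩⟩) j) ⟨x.1, hi _, x.2⟩
  · funext x
    exact congrFun (ht (i x)) ⟨x.1, hi x⟩

/-- Constant functions on the opens. -/
def constSub (U : Opens X) (A : Type u) [AddCommGroup A] : AddSubgroup (U → A) where
  carrier := {f | ∀ x y, f x = f y}
  zero_mem' := fun _ _ => rfl
  add_mem' := fun hf hg x y => by simp only [Pi.add_apply, hf x y, hg x y]
  neg_mem' := fun hf x y => by simp only [Pi.neg_apply, hf x y]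

/-- `U ↦ A` for nonempty `U`, `0` for empty `U`. -/
def constPresheaf (X : TopCat.{u}) (A : Type u) [AddCommGroup A] :
    (Opens X)ᵒᵖ ⥤ AddCommGrpCat.{u} where
  obj U := AddCommGrpCat.of (constSub U.unop A)
  map {U V} i := AddCommGrpCat.ofHom
    { toFun := fun s => ⟨fun x => s.1 ⟨x.1, leOfHom i.unop x.2⟩, fun _ _ => s.2 _ _⟩
      map_zero' := rfl
      map_add' := fun _ _ => rfl }

variable [IrreducibleSpace X] (A : Type u) [AddCommGroup A]

theorem isSheaf_constPresheaf : TopCat.Presheaf.IsSheaf (constPresheaf X A) := by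
  rw [TopCat.Presheaf.isSheaf_iff_isSheafUniqueGluing]
  intro ι U sf h
  choose i hi using fun x : (iSup U : Opens X) => Opens.mem_iSup.1 x.2
  refine ⟨⟨fun x => (sf (i x)).1 ⟨x.1, hi x⟩, fun x y => ?_⟩, fun j => ?_, fun t ht => ?_⟩
  · obtain ⟨z, hz⟩ : ∃ z, z ∈ (U (i x) : Set X) ∩ U (i y) :=
      nonempty_preirreducible_inter (U (i x)).2 (U (i y)).2 ⟨x.1, hi x⟩ ⟨y.1, hi y⟩
    calc (sf (i x)).1 ⟨x.1, hi x⟩ = (sf (i x)).1 ⟨z, hz.1⟩ := (sf (i x)).2 _ _
      _ = (sf (i y)).1 ⟨z, hz.2⟩ := congrFun (congrArg Subtype.val (h (i x) (i y))) ⟨z, hz⟩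
      _ = _ := (sf (i y)).2 _ _
  · refine Subtype.ext (funext fun x => ?_)
    exact congrFun (congrArg Subtype.val (h (i ⟨x.1, Opens.mem_iSup.2 ⟨j, x.2⟩⟩) j))
      ⟨x.1, hi _, x.2⟩
  · refine Subtype.ext (funext fun x => ?_)
    exact congrFun (congrArg Subtype.val (ht (i x))) ⟨x.1, hi x⟩

/-- The constant presheaf maps to the presheaf of constant functions. -/
def toConst : (Functor.const (Opens X)ᵒᵖ).obj (AddCommGrpCat.of A) ⟶ constPresheaf X A where
  app U := AddCommGrpCat.ofHom
    { toFun := fun a => ⟨fun _ => a, fun _ _ => rfl⟩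
      map_zero' := rfl
      map_add' := fun _ _ => rfl }
  naturality _ _ _ := rfl

/-- The sheaf of constant functions. -/
def constFlasque : CohTop.Ab X := ⟨constPresheaf X A, isSheaf_constPresheaf A⟩

/-- The comparison with the constant sheaf. -/
def constIso : CohTop.const X A ≅ constFlasque A :=
  haveI : Presheaf.IsLocallyInjective (Opens.grothendieckTopology X) (toConst (X := X) A) :=
    ⟨fun {U} a b h => by
      intro x hx
      exact ⟨U.unop, 𝟙 _, congrFun (congrArg Subtype.val h) ⟨x, hx⟩, hx⟩⟩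
  haveI : Presheaf.IsLocallySurjective (Opens.grothendieckTopology X) (toConst (X := X) A) :=
    ⟨fun {U} s => by
      intro x hx
      exact ⟨U, 𝟙 _, ⟨s.1 ⟨x, hx⟩, Subtype.ext (funext fun y => s.2 _ _)⟩, hx⟩⟩
  haveI hI : IsIso ((presheafToSheaf (Opens.grothendieckTopology X) AddCommGrpCat.{u}).map
      (toConst (X := X) A)) :=
    ((Opens.grothendieckTopology X).W_iff _).1
      (GrothendieckTopology.W_of_isLocallyBijective _ _)
  @asIso _ _ _ _ _ hI ≪≫
    @asIso _ _ _ _ _ (isIso_sheafificationAdjunction_counit (J := Opens.grothendieckTopology X)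
      (D := AddCommGrpCat.{u}) (constFlasque A))

/-- Constant sheaves on irreducible spaces are flasque. -/
theorem isFlasque_const : TopCat.Sheaf.IsFlasque (CohTop.const X A) where
  epi {U V} i := by
    rw [AddCommGrpCat.epi_iff_surjective]
    have e := constIso (X := X) A
    intro s
    obtain ⟨t, ht⟩ : ∃ t : (constFlasque (X := X) A).obj.obj U,
        (constFlasque A).obj.map i t = e.hom.hom.app V s := by
      rcases isEmpty_or_nonempty V.unop with hV | ⟨⟨v⟩⟩
      · exact ⟨0, Subtype.ext (funext fun x => hV.elim x)⟩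
      · exact ⟨⟨fun _ => (e.hom.hom.app V s).1 v, fun _ _ => rfl⟩,
          Subtype.ext (funext fun y => (e.hom.hom.app V s).2 v y)⟩
    refine ⟨e.inv.hom.app U t, ?_⟩
    refine (ConcreteCategory.congr_hom (e.inv.hom.naturality i) t).symm.trans ?_
    refine (congrArg (e.inv.hom.app V) ht).trans ?_
    exact ConcreteCategory.congr_hom (congrArg (fun f => f.hom.app V) e.hom_inv_id) s

/-- On a discrete space every sheaf of abelian groups is flasque. -/
theorem surjective_res_discrete {Y : TopCat.{u}} [DiscreteTopology Y] (G : CohTop.Ab Y)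
    {U V : (Opens Y)ᵒᵖ} (i : U ⟶ V) : Function.Surjective (G.obj.map i) := by
  intro s
  let W : Opens Y := ⟨(U.unop : Set Y) \ V.unop, isOpen_discrete _⟩
  have hle : V.unop ≤ U.unop := leOfHom i.unop
  have hW : W ≤ U.unop := Set.diff_subset
  have hdisj : V.unop ⊓ W = ⊥ := Opens.ext (Set.eq_empty_of_forall_notMem fun y hy => hy.2.2 hy.1)
  let T : ULift.{u} Bool → Opens Y := fun b => bif b.down then V.unop else W
  let sf : ∀ b, G.obj.obj (op (T b)) := fun b => match b with
    | ⟨true⟩ => s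
    | ⟨false⟩ => 0
  have hcompat : TopCat.Presheaf.IsCompatible (G.obj : TopCat.Presheaf AddCommGrpCat.{u} Y) T sf := by
    have hempty : ∀ A : Opens Y, A = ⊥ → ∀ a b : G.obj.obj (op A), a = b := by
      rintro A rfl a b
      exact TopCat.Presheaf.section_ext (G : TopCat.Sheaf AddCommGrpCat.{u} Y) ⊥ a b
        fun y hy => False.elim hy
    rintro ⟨_ | _⟩ ⟨_ | _⟩
    · rfl
    · exact hempty _ ((inf_comm W V.unop).trans hdisj) _ _
    · exact hempty _ hdisj _ _
    · rfl
  obtain ⟨t, ht, -⟩ := TopCat.Sheaf.existsUnique_gluing' (G : TopCat.Sheaf AddCommGrpCat.{u} Y) T U.unop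
    (fun b => homOfLE (by obtain ⟨_ | _⟩ := b <;> [exact hW; exact hle]))
    (fun y hy => by
      by_cases h : y ∈ V.unop
      · exact Opens.mem_iSup.2 ⟨⟨true⟩, h⟩
      · exact Opens.mem_iSup.2 ⟨⟨false⟩, hy, h⟩) sf hcompat
  exact ⟨t, ht ⟨true⟩⟩

end Groth.Agent.IrrFlasque
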